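import Groth.Agent.Goldman.Scheme
import Mathlib.AlgebraicGeometry.Stalk

/-!
# Closed points of locally Noetherian schemes, specializations inside affine charts
-/

universe u

open AlgebraicGeometry CategoryTheory TopologicalSpace

namespace Groth.Agent.SchTop

/-- On a locally Noetherian scheme every point specializes to a closed point. -/
theorem exists_isClosed_specializes {X : Scheme.{u}} [IsLocallyNoetherian X] (x : X) :
    ∃ z : X, x ⤳ z ∧ IsClosed ({z} : Set X) := by
  obtain ⟨y, hy, hylc⟩ := Goldman.exists_lc_point (isClosed_closure (s := ({x} : Set X))).isLocallyClosed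
    ⟨x, subset_closure rfl⟩
  have hxy : x ⤳ y := specializes_iff_mem_closure.2 hy
  by_cases h : ∃ r, y ⤳ r ∧ r ≠ y
  · obtain ⟨r, hyr, hne⟩ := h
    exact ⟨r, hxy.trans hyr, Goldman.isClosed_of_specializes hylc hyr hne⟩
  · refine ⟨y, hxy, closure_subset_iff_isClosed.mp fun r hr => ?_⟩
    by_contra hne
    exact h ⟨r, specializes_iff_mem_closure.2 hr, hne⟩

theorem primeIdealOf_le {X : Scheme.{u}} {U : X.Opens} (hU : IsAffineOpen U) {x z : X}
    (hx : x ∈ U) (hz : z ∈ U) (h : x ⤳ z) :
    (hU.primeIdealOf ⟨x, hx⟩).asIdeal ≤ (hU.primeIdealOf ⟨z, hz⟩).asIdeal := by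
  rw [PrimeSpectrum.asIdeal_le_asIdeal, PrimeSpectrum.le_iff_specializes]
  refine hU.fromSpec.isOpenEmbedding.isInducing.specializes_iff.1 ?_
  rw [hU.fromSpec_primeIdealOf, hU.fromSpec_primeIdealOf]
  exact h

/-- The local ring at a point of an affine open is the localization of its ring of functions. -/
theorem nonempty_stalk_equiv {X : Scheme.{u}} {U : X.Opens} (hU : IsAffineOpen U) {x : X}
    (hx : x ∈ U) :
    Nonempty (X.presheaf.stalk x ≃+* Localization.AtPrime (hU.primeIdealOf ⟨x, hx⟩).asIdeal) := by
  let := TopCat.Presheaf.algebra_section_stalk X.presheaf ⟨x, hx⟩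
  have := hU.isLocalization_stalk ⟨x, hx⟩
  exact ⟨(IsLocalization.algEquiv (hU.primeIdealOf ⟨x, hx⟩).asIdeal.primeCompl
    (X.presheaf.stalk x) _).toRingEquiv⟩

end Groth.Agent.SchTop

namespace Groth.Agent.SchTop

/-- The Krull dimension of a local ring is at most the dimension of the scheme. -/
theorem ringKrullDim_stalk_le {X : Scheme.{u}} (x : X) :
    ringKrullDim (X.presheaf.stalk x) ≤ topologicalKrullDim X := by
  rw [ringKrullDim_stalk_eq_coheight x, topologicalKrullDim,
    Order.krullDim_eq_of_orderIso irreducibleSetEquivPoints]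
  exact Order.coheight_le_krullDim x

/-- A Noetherian sober space of dimension zero is discrete. -/
theorem isOpen_singleton_of_dim_le_zero {T : Type*} [TopologicalSpace T] [QuasiSober T] [T0Space T]
    [NoetherianSpace T] (h : topologicalKrullDim T ≤ 0) (x : T) : IsOpen ({x} : Set T) := by
  have hc : ∀ y : T, IsClosed ({y} : Set T) := fun y => by
    refine closure_subset_iff_isClosed.mp fun z hz => ?_
    unfold topologicalKrullDim at h
    have hmin := Order.krullDim_nonpos_iff_forall_isMin.1 h
      ⟨closure {y}, isIrreducible_singleton.closure, isClosed_closure⟩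
    have := hmin (b := ⟨closure {z}, isIrreducible_singleton.closure, isClosed_closure⟩)
      (closure_minimal (Set.singleton_subset_iff.mpr hz) isClosed_closure)
    exact ((specializes_iff_mem_closure.mpr (this (subset_closure rfl))).antisymm
      (specializes_iff_mem_closure.mpr hz)).eq
  have hfin : Finite T := by
    have hf := NoetherianSpace.finite_irreducibleComponents (α := T)
    refine Set.finite_univ_iff.1 ((hf.sUnion fun Z hZ => ?_).subset
      (sUnion_irreducibleComponents (X := T)).ge)
    have hg := hZ.1.closure_genericPoint (isClosed_of_mem_irreducibleComponents Z hZ)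
    rw [(hc _).closure_eq] at hg
    rw [← hg]
    exact Set.finite_singleton _
  have : T1Space T := ⟨hc⟩
  exact isOpen_discrete _

end Groth.Agent.SchTop

namespace Groth.Agent.SchTop

/-- If a local ring is a domain then the generizations of the point have a least element. -/
theorem exists_least_generization {X : Scheme.{u}} (x : X) [IsDomain (X.presheaf.stalk x)] :
    ∃ η₀ : X, ∀ η : X, η ⤳ x → η₀ ⤳ η := by
  obtain ⟨_, ⟨U, hU, rfl⟩, hxU, -⟩ :=
    X.isBasis_affineOpens.exists_subset_of_mem_open (Set.mem_univ x) isOpen_univ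
  let φ := (X.presheaf.germ U x hxU).hom
  have : (RingHom.ker φ).IsPrime := RingHom.ker_isPrime φ
  refine ⟨hU.fromSpec ⟨RingHom.ker φ, inferInstance⟩, fun η hη => ?_⟩
  have hηU : η ∈ U := hη.mem_open U.isOpen hxU
  rw [← show hU.fromSpec (hU.primeIdealOf ⟨η, hηU⟩) = η from hU.fromSpec_primeIdealOf _]
  refine ((PrimeSpectrum.le_iff_specializes _ _).1 ?_).map hU.fromSpec.continuous
  intro a ha
  let := TopCat.Presheaf.algebra_section_stalk X.presheaf ⟨x, hxU⟩
  have := hU.isLocalization_stalk ⟨x, hxU⟩
  obtain ⟨s, hs⟩ := (IsLocalization.map_eq_zero_iff (hU.primeIdealOf ⟨x, hxU⟩).asIdeal.primeCompl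
    (X.presheaf.stalk x) a).1 ha
  refine ((hU.primeIdealOf ⟨η, hηU⟩).2.mem_or_mem (show (s : Γ(X, U)) * a ∈ _ from hs ▸ zero_mem _)).resolve_left
    fun h => s.2 (primeIdealOf_le hU hηU hxU hη h)

/-- Two irreducible components through a point with a domain as local ring are equal. -/
theorem irreducibleComponents_eq {X : Scheme.{u}} (x : X) [IsDomain (X.presheaf.stalk x)]
    {Z Z' : Set X} (hZ : Z ∈ irreducibleComponents X) (hZ' : Z' ∈ irreducibleComponents X)
    (hx : x ∈ Z) (hx' : x ∈ Z') : Z = Z' := by
  obtain ⟨η₀, h⟩ := exists_least_generization x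
  have key : ∀ W ∈ irreducibleComponents X, x ∈ W → W = closure {η₀} := fun W hW hxW => by
    have hg := hW.1.closure_genericPoint (isClosed_of_mem_irreducibleComponents W hW)
    have h1 : hW.1.genericPoint ⤳ x := specializes_iff_mem_closure.2 (hg.symm ▸ hxW)
    have h2 : W ⊆ closure {η₀} := by
      rw [← hg]
      exact closure_minimal (Set.singleton_subset_iff.mpr (h _ h1).mem_closure) isClosed_closure
    exact h2.antisymm (hW.2 isIrreducible_singleton.closure h2)
  rw [key Z hZ hx, key Z' hZ' hx']

theorem isOpen_component_of_finite {X : Scheme.{u}} (hfin : (irreducibleComponents X).Finite)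
    (hX : ∀ x : X, IsDomain (X.presheaf.stalk x)) {Z : Set X} (hZ : Z ∈ irreducibleComponents X) :
    IsOpen Z := by
  have e : Z = (⋃ W ∈ irreducibleComponents X \ {Z}, W)ᶜ := by
    ext x
    have := hX x
    refine ⟨fun hx hx' => ?_, fun hx => ?_⟩
    · obtain ⟨W, hW, hxW⟩ := Set.mem_iUnion₂.1 hx'
      exact hW.2 (irreducibleComponents_eq x hW.1 hZ hxW hx)
    · by_contra hxZ
      obtain ⟨W, hW, hxW⟩ := Set.mem_sUnion.1
        ((sUnion_irreducibleComponents (X := X)).ge (Set.mem_univ x))
      exact hx (Set.mem_iUnion₂.2 ⟨W, ⟨hW, fun h => hxZ (h ▸ hxW)⟩, hxW⟩)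
  rw [e]
  exact ((hfin.subset Set.sdiff_subset).isClosed_biUnion fun W hW =>
    isClosed_of_mem_irreducibleComponents W hW.1).isOpen_compl

end Groth.Agent.SchTop
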