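import Groth.Agent.SchTop.Closed
import Mathlib.AlgebraicGeometry.Morphisms.QuasiSeparated
import Mathlib.AlgebraicGeometry.Limits
import Mathlib.RingTheory.Spectrum.Prime.Topology
import Mathlib.Topology.Connected.TotallyDisconnected
import Mathlib.Topology.Connected.Separation

/-!
# Quasi-separated schemes of dimension zero
-/

universe u

open AlgebraicGeometry CategoryTheory TopologicalSpace

namespace Groth.Agent.SchTop

variable {X : Scheme.{u}}

theorem isClosed_singleton_of_dim_le_zero (h : topologicalKrullDim X ≤ 0) (y : X) :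
    IsClosed ({y} : Set X) := by
  refine closure_subset_iff_isClosed.mp fun z hz => ?_
  unfold topologicalKrullDim at h
  have hmin := Order.krullDim_nonpos_iff_forall_isMin.1 h
    ⟨closure {y}, isIrreducible_singleton.closure, isClosed_closure⟩
  have := hmin (b := ⟨closure {z}, isIrreducible_singleton.closure, isClosed_closure⟩)
    (closure_minimal (Set.singleton_subset_iff.mpr hz) isClosed_closure)
  exact ((specializes_iff_mem_closure.mpr (this (subset_closure rfl))).antisymm
    (specializes_iff_mem_closure.mpr hz)).eq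

theorem isClosed_basicOpen_of_closed_points {R : Type*} [CommRing R]
    (h : ∀ p : PrimeSpectrum R, IsClosed ({p} : Set (PrimeSpectrum R))) (f : R) :
    IsClosed (PrimeSpectrum.basicOpen f : Set (PrimeSpectrum R)) := by
  rw [← PrimeSpectrum.localization_away_comap_range (Localization.Away f) f]
  exact PrimeSpectrum.isClosed_range_of_stableUnderSpecialization _ fun p q hpq hp =>
    (hpq.mem_closed (h p) rfl : q = p) ▸ hp

/-- Inside an affine open of a zero dimensional scheme, compact opens are relatively closed. -/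
theorem isClosed_preimage_fromSpec (h : topologicalKrullDim X ≤ 0) {W : X.Opens}
    (hW : IsAffineOpen W) {K : X.Opens} (hK : IsCompact (K : Set X)) (hKW : K ≤ W) :
    IsClosed (hW.fromSpec ⁻¹' (K : Set X)) := by
  have hc : ∀ p : PrimeSpectrum Γ(X, W), IsClosed ({p} : Set (PrimeSpectrum Γ(X, W))) := fun p => by
    have h' := (isClosed_singleton_of_dim_le_zero h (hW.fromSpec p)).preimage hW.fromSpec.continuous
    rwa [show ({hW.fromSpec p} : Set X) = hW.fromSpec '' {p} from (Set.image_singleton).symm,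
      hW.fromSpec.isOpenEmbedding.injective.preimage_image] at h'
  have hKc : IsCompact (hW.fromSpec ⁻¹' (K : Set X)) := by
    refine hW.fromSpec.isOpenEmbedding.isInducing.isCompact_preimage' hK ?_
    rw [hW.range_fromSpec]
    exact hKW
  obtain ⟨s, hsub, hs, e⟩ := (PrimeSpectrum.isBasis_basic_opens (R := Γ(X, W))).exists_finite_of_isCompact
    (U := (⟨hW.fromSpec ⁻¹' (K : Set X), K.isOpen.preimage hW.fromSpec.continuous⟩ :
      Opens (PrimeSpectrum Γ(X, W)))) hKc
  show IsClosed (((⟨hW.fromSpec ⁻¹' (K : Set X), K.isOpen.preimage hW.fromSpec.continuous⟩ :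
      Opens (PrimeSpectrum Γ(X, W)))) : Set (PrimeSpectrum Γ(X, W)))
  rw [e, Opens.coe_sSup]
  refine hs.isClosed_biUnion fun V hV => ?_
  obtain ⟨f, rfl⟩ := hsub hV
  exact isClosed_basicOpen_of_closed_points hc f

theorem isClopen_of_isCompact [QuasiSeparatedSpace X] (h : topologicalKrullDim X ≤ 0) {V : X.Opens}
    (hV : IsCompact (V : Set X)) : IsClopen (V : Set X) := by
  refine ⟨⟨isOpen_iff_forall_mem_open.2 fun x hx => ?_⟩, V.isOpen⟩
  obtain ⟨_, ⟨W, hW₀, rfl⟩, hxW, -⟩ :=
    X.isBasis_affineOpens.exists_subset_of_mem_open (Set.mem_univ x) isOpen_univ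
  have hW : IsAffineOpen W := hW₀
  have hK : IsCompact ((V ⊓ W : X.Opens) : Set X) :=
    QuasiSeparatedSpace.inter_isCompact _ _ V.isOpen hV W.isOpen hW.isCompact
  refine ⟨hW.fromSpec '' (hW.fromSpec ⁻¹' ((V ⊓ W : X.Opens) : Set X))ᶜ, ?_,
    hW.fromSpec.isOpenEmbedding.isOpenMap _
      (isClosed_preimage_fromSpec h hW hK inf_le_right).isOpen_compl, ?_⟩
  · rintro _ ⟨p, hp, rfl⟩ hV'
    exact hp ⟨hV', hW.range_fromSpec.subset ⟨p, rfl⟩⟩
  · obtain ⟨p, rfl⟩ := hW.range_fromSpec.superset hxW
    exact ⟨p, fun hp => hx hp.1, rfl⟩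

theorem totallySeparatedSpace_of_dim_le_zero [QuasiSeparatedSpace X]
    (h : topologicalKrullDim X ≤ 0) : TotallySeparatedSpace X := by
  refine totallySeparatedSpace_iff_exists_isClopen.2 fun x y hxy => ?_
  obtain ⟨_, ⟨V, hV, rfl⟩, hxV, hVy⟩ := X.isBasis_affineOpens.exists_subset_of_mem_open
    (show x ∈ ({y}ᶜ : Set X) from hxy) (isClosed_singleton_of_dim_le_zero h y).isOpen_compl
  exact ⟨V, isClopen_of_isCompact h hV.isCompact, hxV, fun hy => hVy hy rfl⟩

theorem isAffineOpen_inf_of_isClopen {U V : X.Opens} (hU : IsAffineOpen U)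
    (hV : IsClopen (V : Set X)) : IsAffineOpen (U ⊓ V) := by
  obtain ⟨e, f, -, -, he⟩ := (PrimeSpectrum.isClopen_iff_mul_add).1 (hV.preimage hU.fromSpec.continuous)
  have he' : U ⊓ V = X.basicOpen e := by
    rw [← hU.fromSpec_image_basicOpen e]
    ext x
    simp only [Scheme.Hom.coe_image, Opens.coe_inf, Set.mem_inter_iff]
    refine ⟨fun hx => ?_, ?_⟩
    · obtain ⟨p, rfl⟩ := hU.range_fromSpec.superset hx.1
      exact ⟨p, he.subset hx.2, rfl⟩
    · rintro ⟨p, hp, rfl⟩
      exact ⟨hU.range_fromSpec.subset ⟨p, rfl⟩, he.superset hp⟩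
  rw [he']
  exact hU.basicOpen e

theorem isAffineOpen_of_isCompact [QuasiSeparatedSpace X] (h : topologicalKrullDim X ≤ 0)
    {U : X.Opens} (hU : IsCompact (U : Set X)) : IsAffineOpen U := by
  classical
  have key : ∀ s : Finset X.affineOpens, IsAffineOpen (⨆ V ∈ s, (V.1 : X.Opens)) ∧
      IsClopen ((⨆ V ∈ s, (V.1 : X.Opens) : X.Opens) : Set X) := fun s => by
    induction s using Finset.induction with
    | empty => exact ⟨by simpa using isAffineOpen_bot X, by simpa using isClopen_empty⟩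
    | insert V s _ ih =>
      obtain ⟨ha, hc⟩ := ih
      let T : X.Opens := ⨆ V ∈ s, (V.1 : X.Opens)
      let Tc : X.Opens := ⟨(T : Set X)ᶜ, hc.1.isOpen_compl⟩
      have e : (⨆ W ∈ insert V s, (W.1 : X.Opens)) = (V.1 ⊓ Tc) ⊔ T := by
        rw [Finset.iSup_insert]
        ext x
        simp only [Opens.coe_sup, Opens.coe_inf, Set.mem_union, Set.mem_inter_iff]
        by_cases hx : x ∈ (T : Set X)
        · exact iff_of_true (Or.inr hx) (Or.inr hx)
        · exact ⟨fun h => h.elim (fun hv => Or.inl ⟨hv, hx⟩) Or.inr,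
            fun h => h.elim (fun hv => Or.inl hv.1) Or.inr⟩
      rw [e]
      refine ⟨(isAffineOpen_inf_of_isClopen V.2 (V := Tc) ⟨?_, Tc.isOpen⟩).sup_of_disjoint ha ?_, ?_⟩
      · exact hc.2.isClosed_compl
      · rw [← Opens.coe_disjoint]
        exact Set.disjoint_left.2 fun x hx => hx.2
      · rw [← e, Finset.iSup_insert, Opens.coe_sup]
        exact (isClopen_of_isCompact h V.2.isCompact).union hc
  obtain ⟨s, hs, rfl⟩ := isCompact_iff_finite_and_eq_biUnion_affineOpens.mp hU |> fun ⟨s, hs, e⟩ =>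
    (⟨hs.toFinset, rfl, by ext x; simp [e]⟩ : ∃ t : Finset X.affineOpens, t = t ∧ U = ⨆ V ∈ t, (V.1 : X.Opens))
  exact (key s).1

end Groth.Agent.SchTop
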