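import Mathlib.AlgebraicGeometry.Morphisms.QuasiCompact
import Mathlib.AlgebraicGeometry.Morphisms.UnderlyingMap
import Mathlib.AlgebraicGeometry.PullbackCarrier
import Mathlib.AlgebraicGeometry.Properties

/-!
# Maximal points and open base change
-/

universe u

open AlgebraicGeometry CategoryTheory

namespace Groth.Agent.SchTop

lemma exists_specializes_of_mem_closure_range {R A : CommRingCat.{u}} (φ : A ⟶ R) (p : PrimeSpectrum A)
    (hp : p ∈ closure (Set.range (PrimeSpectrum.comap φ.hom))) :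
    ∃ q, PrimeSpectrum.comap φ.hom q ⤳ p := by
  rw [PrimeSpectrum.closure_range_comap, PrimeSpectrum.mem_zeroLocus] at hp
  obtain ⟨m, hm, hmp⟩ := Ideal.exists_minimalPrimes_le (I := RingHom.ker φ.hom) hp
  obtain ⟨q, hq, -, hqm⟩ := Ideal.exists_comap_eq_of_mem_minimalPrimes φ.hom (I := ⊥) m
    (show m ∈ ((⊥ : Ideal R).comap φ.hom).minimalPrimes from hm)
  refine ⟨⟨q, hq⟩, (PrimeSpectrum.le_iff_specializes _ _).1 ?_⟩
  show q.comap φ.hom ≤ p.asIdeal
  exact hqm.symm ▸ hmp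

theorem exists_open_of_maximal {X S : Scheme.{u}} (f : X ⟶ S) [QuasiCompact f]
    (η : S) (hη : closure {η} ∈ irreducibleComponents (S : Type u)) (hnot : η ∉ Set.range f) :
    ∃ V : S.Opens, η ∈ V ∧ f ⁻¹ᵁ V = ⊥ := by
  have hmax : ∀ y : S, y ⤳ η → y = η := fun y hy => by
    have h2 : η ⤳ y := specializes_iff_mem_closure.2
      (hη.2 (isIrreducible_singleton.closure : IsIrreducible (closure ({y} : Set S))) hy.closure_subset
        (subset_closure rfl))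
    exact (hy.antisymm h2).eq
  obtain ⟨V, hV, hηV⟩ : ∃ V : S.Opens, IsAffineOpen V ∧ η ∈ V := by
    obtain ⟨_, ⟨V, hV, rfl⟩, hηV, -⟩ := S.isBasis_affineOpens.exists_subset_of_mem_open (Set.mem_univ η) isOpen_univ
    exact ⟨V, hV, hηV⟩
  have hc : CompactSpace (f ⁻¹ᵁ V : X.Opens) :=
    isCompact_iff_compactSpace.1 (f.isCompact_preimage hV.isCompact)
  obtain ⟨R, ψ, hψ⟩ := compactSpace_iff_exists.1 hc
  let h : Spec R ⟶ Spec Γ(S, V) := ψ ≫ (f ∣_ V) ≫ hV.isoSpec.hom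
  let W : Set (V : Scheme) := hV.isoSpec.hom ⁻¹' (closure (Set.range h))ᶜ
  have hW : IsOpen W := (isClosed_closure.isOpen_compl).preimage hV.isoSpec.hom.continuous
  have hnotmem : ∀ z, (f (((f ⁻¹ᵁ V).ι (ψ z))) : S) ≠ η := fun z he => hnot ⟨_, he⟩
  have hηW : (⟨η, hηV⟩ : (V : Scheme)) ∈ W := by
    intro hmem
    obtain ⟨φ, hφ⟩ : ∃ φ, Spec.map φ = h := ⟨Spec.preimage h, Spec.map_preimage h⟩
    have hmem' : (hV.isoSpec.hom ⟨η, hηV⟩ : PrimeSpectrum Γ(S, V)) ∈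
        closure (Set.range (PrimeSpectrum.comap φ.hom)) := by
      rw [← hφ] at hmem
      exact hmem
    obtain ⟨q, hq⟩ := exists_specializes_of_mem_closure_range φ _ hmem'
    have hq' : h q ⤳ hV.isoSpec.hom ⟨η, hηV⟩ := by rw [← hφ]; exact hq
    have h3 : (f ∣_ V) (ψ q) ⤳ (⟨η, hηV⟩ : (V : Scheme)) :=
      (hV.isoSpec.hom.homeomorph.isInducing.specializes_iff).1 hq'
    have h4 := h3.map V.ι.continuous
    have h5 : V.ι ((f ∣_ V) (ψ q)) = f ((f ⁻¹ᵁ V).ι (ψ q)) := by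
      rw [← Scheme.Hom.comp_apply, morphismRestrict_ι, Scheme.Hom.comp_apply]
    exact hnotmem q (h5 ▸ hmax _ h4)
  refine ⟨⟨V.ι '' W, V.ι.isOpenEmbedding.isOpenMap _ hW⟩, ⟨_, hηW, rfl⟩, ?_⟩
  ext x
  simp only [TopologicalSpace.Opens.coe_bot, Set.mem_empty_iff_false, iff_false]
  rintro ⟨v, hv, hvx⟩
  have hxV : f x ∈ V := hvx ▸ v.2
  obtain ⟨z, hz⟩ := hψ ⟨x, hxV⟩
  refine hv (subset_closure ⟨z, ?_⟩)
  show hV.isoSpec.hom ((f ∣_ V) (ψ z)) = _
  congr 1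
  apply V.ι.isOpenEmbedding.injective
  rw [← Scheme.Hom.comp_apply, morphismRestrict_ι, Scheme.Hom.comp_apply, hz]
  exact hvx.symm

theorem range_eq_of_isPullback {X S X' S' : Scheme.{u}} {f : X ⟶ S} {g : S' ⟶ S} {g' : X' ⟶ X}
    {f' : X' ⟶ S'} (hsq : IsPullback g' f' f g) : Set.range f' = g ⁻¹' Set.range f := by
  rw [← hsq.isoPullback_hom_snd, ← Scheme.Pullback.range_snd]
  ext y
  constructor
  · rintro ⟨x, rfl⟩; exact ⟨_, (Scheme.Hom.comp_apply ..).symm⟩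
  · rintro ⟨x, rfl⟩
    obtain ⟨x', rfl⟩ := hsq.isoPullback.hom.homeomorph.surjective x
    exact ⟨x', Scheme.Hom.comp_apply ..⟩

theorem isDominant_of_openMap {X S X' S' : Scheme.{u}} (f : X ⟶ S) [IsDominant f]
    (g : S' ⟶ S) (g' : X' ⟶ X) (f' : X' ⟶ S') (hsq : IsPullback g' f' f g) (hg : IsOpenMap g) :
    IsDominant f' := by
  refine ⟨dense_iff_closure_eq.2 ?_⟩
  rw [range_eq_of_isPullback hsq, ← hg.preimage_closure_eq_closure_preimage g.continuous,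
    dense_iff_closure_eq.1 f.denseRange, Set.preimage_univ]

theorem quasiCompact_of_openSurjective {X Y X' Y' : Scheme.{u}} (f : X ⟶ Y) (g : Y' ⟶ Y) [Surjective g]
    (hg : IsOpenMap g) (g' : X' ⟶ X) (f' : X' ⟶ Y') (hsq : IsPullback g' f' f g) [QuasiCompact f'] :
    QuasiCompact f := by
  refine ⟨fun U hU hUc => ?_⟩
  have hB := Y'.isBasis_affineOpens
  choose W hWa hxW hWU using fun y : {y : Y' // g y ∈ U} =>
    TopologicalSpace.Opens.isBasis_iff_nbhd.1 hB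
      (U := ⟨g ⁻¹' U, hU.preimage g.continuous⟩) y.2
  obtain ⟨t, ht⟩ := hUc.elim_finite_subcover (fun y => g '' (W y : Set Y')) (fun y => hg _ (W y).isOpen)
    (fun u hu => by
      obtain ⟨y, rfl⟩ := g.surjective u
      exact Set.mem_iUnion.2 ⟨⟨y, hu⟩, y, hxW ⟨y, hu⟩, rfl⟩)
  have hK : IsCompact (g' '' ⋃ y ∈ t, f' ⁻¹' (W y : Set Y')) :=
    (t.finite_toSet.isCompact_biUnion fun y _ => f'.isCompact_preimage (hWa y).isCompact).image g'.continuous
  convert hK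
  ext x
  constructor
  · intro hx
    obtain ⟨y, hy, w, hw, hwx⟩ := Set.mem_iUnion₂.1 (ht hx)
    obtain ⟨z, hz1, hz2⟩ := Scheme.Pullback.exists_preimage_pullback (f := f) (g := g) x w hwx.symm
    refine ⟨hsq.isoPullback.inv z, Set.mem_biUnion hy ?_, ?_⟩
    · show f' (hsq.isoPullback.inv z) ∈ W y
      rw [← Scheme.Hom.comp_apply, hsq.isoPullback_inv_snd, hz2]
      exact hw
    · rw [← Scheme.Hom.comp_apply, hsq.isoPullback_inv_fst, hz1]
  · rintro ⟨z, hz, rfl⟩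
    obtain ⟨y, -, hy⟩ := Set.mem_iUnion₂.1 hz
    show f (g' z) ∈ U
    rw [← Scheme.Hom.comp_apply, hsq.w, Scheme.Hom.comp_apply]
    exact hWU y hy

end Groth.Agent.SchTop
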