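import Mathlib.AlgebraicGeometry.Properties
import Mathlib.AlgebraicGeometry.Noetherian
import Mathlib.RingTheory.Ideal.KrullsHeightTheorem

universe u

open AlgebraicGeometry Order TopologicalSpace

namespace Groth.Agent.SchTop

variable {X : Scheme.{u}} [IsLocallyNoetherian X]

/-- The codimension of a point of a locally Noetherian scheme. -/
noncomputable def codim (x : X) : ℕ := (coheight x).toNat

theorem coheight_lt_top (x : X) : coheight x < ⊤ := by
  have h : ringKrullDim (X.presheaf.stalk x) < ⊤ := ringKrullDim_lt_top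
  rw [ringKrullDim_stalk_eq_coheight] at h
  exact WithBot.coe_lt_coe.mp h

/-- Codimension strictly increases along non-trivial specializations. -/
theorem codim_lt {x y : X} (h : x ⤳ y) (hne : x ≠ y) : codim x < codim y := by
  have h1 : y < x := lt_of_le_not_ge h fun h' => hne ((h.antisymm h').eq)
  have h2 : coheight x < coheight y := coheight_strictAnti h1 (coheight_lt_top x)
  rw [codim, codim]
  obtain ⟨a, ha⟩ := ENat.ne_top_iff_exists.1 (coheight_lt_top x).ne
  obtain ⟨b, hb⟩ := ENat.ne_top_iff_exists.1 (coheight_lt_top y).ne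
  rw [← ha, ← hb] at h2 ⊢
  simpa using h2

/-- Among points of `T` specializing to `t` there is one without generizations in `T`. -/
theorem exists_maximal_mem (T : Set X) {t : X} (ht : t ∈ T) :
    ∃ t₀ ∈ T, (∀ t' ∈ T, t' ⤳ t₀ → t' = t₀) ∧ t₀ ⤳ t := by
  obtain ⟨t₀, ⟨h₀, h₀'⟩, hmin⟩ :=
    (measure (fun x : X => codim x)).wf.has_min {x | x ∈ T ∧ x ⤳ t} ⟨t, ht, specializes_rfl⟩
  exact ⟨t₀, h₀, fun t' h' hs =>
    not_not.1 fun hne => hmin t' ⟨h', hs.trans h₀'⟩ (codim_lt hs hne), h₀'⟩

theorem exists_infinite_antichain_generizing (T : Set X) (m : X) (hT : {a ∈ T | a ⤳ m}.Infinite) :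
    ∃ T' : Set X, T' ⊆ T ∧ T'.Infinite ∧ ∀ a ∈ T', ∀ b ∈ T', a ⤳ b → a = b := by
  have hle : ∀ a ∈ {a ∈ T | a ⤳ m}, codim a ≤ codim m := fun a ha => by
    by_cases h : a = m
    · rw [h]
    · exact (codim_lt ha.2 h).le
  obtain ⟨k, hk⟩ : ∃ k, {a ∈ T | a ⤳ m ∧ codim a = k}.Infinite := by
    by_contra hc
    push Not at hc
    refine hT ((((Finset.range (codim m + 1)).finite_toSet.biUnion fun k _ => hc k)).subset ?_)
    intro a ha
    exact Set.mem_biUnion (x := codim a) (by simpa [Nat.lt_succ_iff] using hle a ha)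
      ⟨ha.1, ha.2, rfl⟩
  exact ⟨_, fun a ha => ha.1, hk, fun a ha b hb h => not_not.1 fun hne =>
    absurd (codim_lt h hne) (by rw [ha.2.2, hb.2.2]; exact lt_irrefl k)⟩

end Groth.Agent.SchTop
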